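import Cfsg.Agent.Z12.Mod
import Cfsg.Agent.W6.Gen

/-! Automizers; the subgroups `E` and `F` of order `32`; the embedding of `M` in `K = W(D₆)`. -/

set_option autoImplicit false
set_option maxRecDepth 100000
set_option synthInstance.maxSize 100000
set_option synthInstance.maxHeartbeats 0

noncomputable section

namespace Cfsg.Agent.Z12

open Subgroup Cfsg.Agent.X32 Cfsg.Agent.X32.TG Cfsg.Agent.Std.PcT Cfsg.Agent.LES Cfsg.Agent.SylT
  Cfsg.Agent.RuT Cfsg.Agent.PLocal Cfsg.Agent.PLocal.Amb Cfsg.Agent.Gold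
open Cfsg.Agent.Y16 (NV X7 X1)
open Cfsg.Agent.W6 (K lkK zz)

section Aut

variable {X G : Type*} [Group X] [Group G] {j : X →* G}

theorem mem_nA [Finite G] {n : G} {k : X → X} (h : ∀ v, Cg j n v (k v)) : n ∈ 𝐍[j.range] :=
  mem_normalizer_of_cj_le (cj_le_iff_forall.2 (by rintro _ ⟨v, rfl⟩; exact ⟨k v, Eq.symm (h v)⟩))

theorem mem_nA' [Finite G] {n : G} (h : ∀ v, ∃ w, Cg j n v w) : n ∈ 𝐍[j.range] := by
  choose k hk using h; exact mem_nA hk

variable (hj : Function.Injective j)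

/-- the action of the normaliser -/
def fA : 𝐍[j.range] →* MulAut X :=
  (MulAut.congr (MonoidHom.ofInjective hj)).symm.toMonoidHom.comp j.range.normalizerMonoidHom

theorem fA_cg (n : 𝐍[j.range]) (v : X) : Cg j n v (fA hj n v) :=
  (congrArg Subtype.val ((MonoidHom.ofInjective hj).apply_symm_apply
    (j.range.normalizerMonoidHom n (MonoidHom.ofInjective hj v)))).symm

theorem fA_eq (n : 𝐍[j.range]) {v w : X} (e : Cg j n v w) : fA hj n v = w :=
  hj (Eq.trans (Eq.symm (fA_cg hj n v)) e)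

theorem fA_one {n : 𝐍[j.range]} : fA hj n = 1 ↔ (n : G) ∈ 𝐂[j.range] := by
  refine ⟨fun e => ?_, fun e => MulEquiv.ext fun v => fA_eq hj n ?_⟩
  · rintro _ ⟨v, rfl⟩
    have := fA_cg hj n v
    rw [e] at this
    exact (mul_inv_eq_iff_eq_mul.1 this).symm
  · exact mul_inv_eq_iff_eq_mul.2 (e _ ⟨v, rfl⟩).symm

instance finAut [Finite X] : Finite (MulAut X) :=
  Finite.of_injective _ (DFunLike.coe_injective (F := MulAut X))

theorem fA_syl [Finite G] [Finite X] {R : Subgroup G} (h : IsSyl 2 R 𝐍[j.range]) :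
    IsSyl 2 ((R.subgroupOf 𝐍[j.range]).map (fA hj)) (fA hj).range := by
  obtain ⟨R', hR⟩ := h.exists_sylow
  have := (isSyl_top R').map (fA hj)
  rwa [← MonoidHom.range_eq_map, hR] at this

end Aut

variable {Γ G : Type*} [Group Γ] [Group G] {φ : M →* G}

theorem cg_map {X : Type*} [Group X] {ι : X →* M} {s : M} {v w : X} (h : Cg ι s v w) :
    Cg (φ.comp ι) (φ s) v w := by
  have := congrArg φ h
  simpa [Cg] using this

theorem cg_of_map {X : Type*} [Group X] {ι : X →* M} (h : Function.Injective φ) {s : M} {v w : X}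
    (e : Cg (φ.comp ι) (φ s) v w) : Cg ι s v w := h (by simpa [Cg] using e)

instance bdCg {T : Tab} [Fact T.OK] {X : Type} [Group X] (ι : X →* TG T) (s : TG T) (v w : X) {b : Bool}
    [BD (s * ι v * s⁻¹ = ι w) b] : BD (Cg ι s v w) b := ‹_›

/-- the image of `V` -/
abbrev VG (φ : M →* G) : Subgroup G := (φ.comp nu).range

theorem cg_phi (x : M) (v : X6) : Cg (φ.comp nu) (φ x) v (act (pr x) v) := cg_map (cg_nu x v)

theorem VG_le : VG φ ≤ φ.range := fun _ ⟨v, h⟩ => ⟨nu v, h⟩

theorem VG_ab : VG φ ≤ 𝐂[VG φ] := by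
  rintro _ ⟨v, rfl⟩ _ ⟨w, rfl⟩
  rw [← map_mul, ← map_mul, x_comm]

theorem range_le_nV [Finite G] : φ.range ≤ 𝐍[VG φ] := by
  rintro _ ⟨x, rfl⟩; exact mem_nA (cg_phi x)

theorem nu_sq (v : X6) : nu v * nu v = 1 := by rw [← map_mul, x_sq, map_one]

theorem Su.injV (h : Su φ) : Function.Injective (φ.comp nu) := h.inj.comp nu_inj

theorem Su.mem_VG (h : Su φ) {x : M} : φ x ∈ VG φ ↔ pr x = 1 :=
  ⟨fun ⟨v, e⟩ => h.inj e ▸ pr_nu v, fun e => let ⟨v, e'⟩ := mem_nu.2 e; ⟨v, congrArg φ e'⟩⟩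

theorem Su.comp (h : Su φ) {α : M →* M} (hα : Function.Injective α) : Su (φ.comp α) := ⟨h.inj.comp hα, by
  rw [MonoidHom.range_comp, MonoidHom.range_eq_top.2 (Finite.injective_iff_surjective.1 hα),
    ← MonoidHom.range_eq_map]
  exact h.syl⟩

instance : Fact (XT 32).OK := ⟨xt_ok 5⟩

abbrev X5 := TG (XT 32)

/-- the basis of `X5` -/
abbrev B5 : List X5 := [e 1, e 2, e 4, e 8, e 16]

theorem x5_ind {R : X5 → Prop} (h1 : R 1) (hm : ∀ {a b}, R a → R b → R (a * b)) (h : ∀ x ∈ B5, R x)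
    (x : X5) : R x :=
  (show ∀ x : X5, lin B5 x = x from BD.of (by decide +kernel)) x ▸
    rel_ev (R := fun x (_ : X5) => R x) h1 (fun a b => hm a b) (List.forall₂_same.2 h) _

theorem x5_ext {f g : X5 →* Γ} (h : ∀ x ∈ B5, f x = g x) : f = g :=
  MonoidHom.ext (x5_ind (by simp) (fun a b => by simp only [map_mul, a, b]) h)

/-- `E`: the bit `i` is the sign change on `f_i, f_5` -/
def eps : X5 →* M := xhom (tup (es [131, 128, 204, 192, 48])) 5 rfl (by decide) (BD.of (by decide +kernel))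
  (BD.of (by decide +kernel))

/-- `F = ⟨z₄, e₄, e₅, a, b⟩` -/
def fi : X5 →* M := xhom (tup (es [15, 16, 32, 64, 256])) 5 rfl (by decide) (BD.of (by decide +kernel))
  (BD.of (by decide +kernel))

instance evEps (a : X5) {n : ℕ} [EV (lin (es [131, 128, 204, 192, 48] : List M) a) n] : EV (eps a) n := ‹_›

instance evFi (a : X5) {n : ℕ} [EV (lin (es [15, 16, 32, 64, 256] : List M) a) n] : EV (fi a) n := ‹_›

theorem eps_inj : Function.Injective eps := (injective_iff_map_eq_one _).2 (BD.of (by decide +kernel))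

theorem fi_inj : Function.Injective fi := (injective_iff_map_eq_one _).2 (BD.of (by decide +kernel))

/-- the image of `E` -/
abbrev EG (φ : M →* G) : Subgroup G := (φ.comp eps).range

theorem eps_normal : ∀ s v, ∃ w, Cg eps s v w := by
  have h : ∀ s, ∀ v ∈ B5, Lx (s * eps v * s⁻¹) fun x => ∃ w, x = eps w := BD.of (by decide +kernel)
  exact fun s => x5_ind ⟨1, Cg.one⟩ (fun ⟨_, a⟩ ⟨_, b⟩ => ⟨_, a.mul b⟩) (h s)

theorem range_le_nE [Finite G] : φ.range ≤ 𝐍[EG φ] := by
  rintro _ ⟨x, rfl⟩; exact mem_nA' fun v => let ⟨w, h⟩ := eps_normal x v; ⟨w, cg_map h⟩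

theorem m_ind {R : M → Prop} (hm : ∀ {a b}, R a → R b → R (a * b)) (h1 : R 1)
    (h : ∀ x ∈ (es [1, 2, 4, 8, 16, 32, 64, 128, 256] : List M), R x) (x : M) : R x := by
  have k : (∀ b ∈ BV, nu b ∈ (es [1, 2, 4, 8, 16, 32, 64, 128, 256] : List M)) ∧ ∀ p : PG,
      ∃ a ∈ [1, e 64], ∃ b ∈ [1, e 128], ∃ c ∈ [1, e 256], sg p = a * b * c := BD.of (by decide +kernel)
  have g : ∀ n ∈ [64, 128, 256], ∀ a ∈ [1, e n], R a := fun n hn a ha => by
    rcases List.mem_pair.1 ha with rfl | rfl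
    · exact h1
    · exact h _ (List.mem_map_of_mem (by clear ha; revert n; decide))
  obtain ⟨a, ha, b, hb, c, hc, e⟩ := k.2 (pr x)
  rw [← nu_sg x, e]
  exact hm (x6_ind (R := fun v => R (nu v)) (by rwa [map_one]) (fun a b => by rw [map_mul]; exact hm a b)
    (fun b hb => h _ (k.1 b hb)) _) (hm (hm (g _ (by simp) a ha) (g _ (by simp) b hb)) (g _ (by simp) c hc))

theorem m_hext {f g : M →* Γ} (h : ∀ x ∈ (es [1, 2, 4, 8, 16, 32, 64, 128, 256] : List M), f x = g x) : f = g :=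
  MonoidHom.ext (m_ind (fun a b => by simp only [map_mul, a, b]) (by simp) h)

/-- a map that is multiplicative on the generators -/
def mkM (f : M → Γ) (h1 : f 1 = 1)
    (h : ∀ x ∈ (es [1, 2, 4, 8, 16, 32, 64, 128, 256] : List M), ∀ y, f (x * y) = f x * f y) : M →* Γ :=
  MonoidHom.mk' f (m_ind (R := fun x => ∀ y, f (x * y) = f x * f y)
    (fun {a b} ha hb y => by rw [mul_assoc, ha, hb, ha, mul_assoc]) (fun y => by rw [one_mul, h1, one_mul]) h)

def tIO : ℕ := nat_lit 0x241d24d124dd2411331e33d233de3312331d33d133dd3311241e24d224de2412242d24e124ed2421332e33e233ee3322332d33e133ed3321242e24e224ee2422243d24f124fd2431333e33f233fe3332333d33f133fd3331243e24f224fe2432240d24c124cd2401330e33c233ce3302330d33c133cd3301240e24c224ce2402241724db24d7241b331433d833d43318331733db33d7331b241424d824d42418242724eb24e7242b332433e833e43328332733eb33e7332b242424e824e42428243724fb24f7243b333433f833f43338333733fb33f7333b243424f824f42438240724cb24c7240b330433c833c4330833073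3cb33c7330b240424c824c42408241524d924d52419331633da33d6331a331533d933d53319241624da24d6241a242524e924e52429332633ea33e6332a332533e933e53329242624ea24e6242a243524f924f52439333633fa33f6333a333533f933f53339243624fa24f6243a240524c924c52409330633ca33c6330a330533c933c53309240624ca24c6240a241f24d324df2413331c33d033dc3310331f33d333df3313241c24d024dc2410242f24e324ef2423332c33e033ec3320332f33e333ef3323242c24e024ec2420243f24f324ff2433333c33f033fc3330333f33f333ff3333243c24f024fc2430240f24c324cf2403330c33c033cc3300330f33c333cf3303240c24c024cc240000170f140f17001400db0fd80fdb00d800d70fd40fd700d4001b0f180f1b001800270f240f27002400eb0fe80feb00e800e70fe40fe700e4002b0f280f2b002800370f340f37003400fb0ff80ffb00f800f70ff40ff700f4003b0f380f3b003800070f040f07000400cb0fc80fcb00c800c70fc40fc700c4000b0f080f0b0008001d0f1e0f1d001e00d10fd20fd100d200dd0fde0fdd00de00110f120f110012002d0f2e0f2d002e00e10fe20fe100e200ed0fee0fed00ee00210f220f210022003d0f3e0f3d003e00f10ff20ff100f200fd0ffe0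ffd00fe00310f320f310032000d0f0e0f0d000e00c10fc20fc100c200cd0fce0fcd00ce00010f020f01000200150f160f15001600d90fda0fd900da00d50fd60fd500d600190f1a0f19001a00250f260f25002600e90fea0fe900ea00e50fe60fe500e600290f2a0f29002a00350f360f35003600f90ffa0ff900fa00f50ff60ff500f600390f3a0f39003a00050f060f05000600c90fca0fc900ca00c50fc60fc500c600090f0a0f09000a001f0f1c0f1f001c00d30fd00fd300d000df0fdc0fdf00dc00130f100f130010002f0f2c0f2f002c00e30fe00fe300e000ef0fec0fef00ec00230f200f230020003f0f3c0f3f003c00f30ff00ff300f000ff0ffc0fff00fc00330f300f330030000f0f0c0f0f000c00c30fc00fc300c000cf0fcc0fcf00cc00030f000f030000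

/-- the embedding in `W(D₆)` -/
def io : M →* K := mkM (lkK tIO) (BD.of (by decide +kernel)) (BD.of (by decide +kernel))

instance evIo (x : M) {m : ℕ} [EV (lkK tIO x) m] : EV (io x) m := ⟨EV.h (a := lkK tIO x)⟩

theorem io_inj : Function.Injective io := (injective_iff_map_eq_one _).2 (BD.of (by decide +kernel))

/-- the sign changes are the elements `0, …, 31` of `K` -/
def eK : X5 →* K := io.comp eps

theorem eK_v : ∀ v : X5, eK v = e v.v := (BD.of (by decide +kernel) : ∀ v : X5, io (eps v) = e v.v)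

instance evEK (v : X5) {m : ℕ} [EV v m] : EV (eK v) m :=
  ⟨by rw [← EV.h (a := v), eK_v]; exact Nat.mod_eq_of_lt (v.lt.trans (by decide))⟩

/-- the automizer of `E` is the same as in `K` -/
structure St (φ : M →* G) : Prop extends Su φ where
  up : ∀ (n : G) (f : X5 → X5), (∀ v, Cg (φ.comp eps) n v (f v)) → ∃ k : K, ∀ v, Cg eK k v (f v)
  lo : ∀ (k : K) (f : X5 → X5), (∀ v, Cg eK k v (f v)) → ∃ n : G, ∀ v, Cg (φ.comp eps) n v (f v)

/-- `N(E)` modulo its core is `K` -/
structure Kp (φ : M →* G) {N : Subgroup G} (π : N →* K) : Prop extends Su φ where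
  eq : N = 𝐍[EG φ]
  surj : Function.Surjective π
  odd : Odd (Nat.card π.ker)
  emb : ∀ x (n : N), (n : G) = φ x → π n = io x

/-- `g` conjugates `u` to `y` and the centraliser of `u` into the Sylow subgroup -/
def Ex (φ : M →* G) (g : G) (u y : M) : Prop := Cg φ g u y ∧ ∀ t, t * u = u * t → ∃ t', Cg φ g t t'

theorem isConj_of_cg {g : G} {x y : M} (h : Cg φ g x y) : IsConj (φ x) (φ y) := isConj_iff.2 ⟨g, h⟩

/-- `k` is a transvection with centre `z` -/
def Tv (k : MulAut X5) (z : X5) : Prop := k ≠ 1 ∧ ∀ v, k v = v ∨ k v = v * z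

end Cfsg.Agent.Z12
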