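import Cfsg.Agent.Y16.Def
import Cfsg.Agent.O7R.Bas

/-! The Sylow `2`-subgroup of `A₁₂` as `M = V ⋊ P`: `V = 𝔽₂⁶` is the permutation module of
`P = ⟨a, c, b⟩ ≅ D₈`.  The code `v + 64 p` stands for `nu v * sg p`.  The bits of `p` are
`a = (01)(23)`, `c = (01)(45)`, `b = (02)(13)`. -/

set_option autoImplicit false
set_option maxRecDepth 100000
set_option synthInstance.maxSize 100000
set_option synthInstance.maxHeartbeats 0

noncomputable section

namespace Cfsg.Agent.Z12

open Cfsg.Agent.X32 Cfsg.Agent.X32.TG Cfsg.Agent.Std.PcT Cfsg.Agent.LES Cfsg.Agent.SylT Cfsg.Agent.RuT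
  Cfsg.Agent.PLocal Cfsg.Agent.PLocal.Amb Cfsg.Agent.Gold
open Cfsg.Agent.Y16 (l8 NV X7)

def PM : ℕ := 0x1000203050406070001030204050706030200010706040502030100060705040405060700010203050407060100030206070405020300010706050403020100

def PI : ℕ := 0x607050403020100

def PC : ℕ := 0x451023450132540123541032452310453201542301543210

def AC : ℕ := 0x3f373b333e363a323d3539313c3438301f171b131e161a121d1519111c1418102f272b232e262a222d2529212c2428200f070b030e060a020d0509010c0408003f3b37333d3935313e3a36323c3834301f1b17131d1915111e1a16121c1814102f2b27232d2925212e2a26222c2824200f0b07030d0905010e0a06020c0804003f373b333d3539313e363a323c3438302f272b232d2529212e262a222c2428201f171b131d1519111e161a121c1418100f070b030d0509010e060a020c0408003f3b37333e3a36323d3935313c3834302f2b27232e2a26222d2925212c2824201f1b17131e1a16121d1915111c1814100f0b07030e0a06020d0905010c0804003f3e3d3c373635343b3a3938333231301f1e1d1c171615141b1a1918131211102f2e2d2c272625242b2a2928232221200f0e0d0c070605040b0a0908030201003f3d3e3c3b393a3837353634333132301f1d1e1c1b191a1817151614131112102f2d2e2c2b292a2827252624232122200f0d0e0c0b090a0807050604030102003f3d3e3c373536343b393a38333132302f2d2e2c272526242b292a28232122201f1d1e1c171516141b191a18131112100f0d0e0c070506040b090a08030102003f3e3d3c3b3a393837363534333231302f2e2d2c2b2a292827262524232221201f1e1d1c1b1a191817161514131211100f0e0d0c0b0a09080706050403020100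

def KC : ℕ := 0x80000080080000086000006006000006700000700700000730000030030000038000080000800008700007000070000760000600006000063000030000300003544200000000544200000000000000000000000000000000544200000000544250054004400420020000000000000000000000000000000050054004400420025005000000005005400400000000400440040000000040042002000000002002a995988498845442988487638673433198848673876343315442433143312110

instance : Fact (XT 64).OK := ⟨xt_ok 6⟩

abbrev X6 := TG (XT 64)

def PT : Tab := ⟨8, fun a b => l8 PM (Nat.add (Nat.shiftLeft a (nat_lit 3)) b), l8 PI⟩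

instance : Fact PT.OK := ⟨Tab.ok_of_chk (d := 6) (b := 4) (bm := 15) (pc := PC) (by decide) (by decide +kernel)⟩

abbrev PG := TG PT

def ac (p v : ℕ) : ℕ := Nat.land (l8 AC (Nat.add (Nat.shiftLeft p (nat_lit 6)) v)) (nat_lit 63)

/-- the action of `P` on `V` -/
def act (p : PG) (v : X6) : X6 := ⟨ac p.v v.v, lt_of_le_of_lt Nat.and_le_right (show 63 < 64 by norm_num)⟩

instance evAct (p : PG) (v : X6) {m n : ℕ} [EV p m] [EV v n] : EV (act p v) (ac m n) :=
  ⟨by rw [← EV.h (a := p), ← EV.h (a := v)]; rfl⟩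

/-- the basis of `V` -/
abbrev BV : List X6 := [e 1, e 2, e 4, e 8, e 16, e 32]

theorem lin_BV : ∀ x : X6, lin BV x = x := BD.of (by decide +kernel)

variable {Γ G : Type*} [Group Γ] [Group G]

theorem x6_ind {R : X6 → Prop} (h1 : R 1) (hm : ∀ {a b}, R a → R b → R (a * b)) (h : ∀ x ∈ BV, R x)
    (x : X6) : R x :=
  lin_BV x ▸ rel_ev (R := fun x (_ : X6) => R x) h1 (fun a b => hm a b) (List.forall₂_same.2 h) _

theorem x6_ext {f g : X6 →* Γ} (h : ∀ x ∈ BV, f x = g x) : f = g :=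
  MonoidHom.ext (x6_ind (by simp) (fun a b => by simp only [map_mul, a, b]) h)

theorem act_mul (p : PG) (v w : X6) : act p (v * w) = act p v * act p w := by
  have h : (∀ p : PG, act p 1 = 1) ∧ ∀ p : PG, ∀ b ∈ BV, ∀ w, act p (b * w) = act p b * act p w :=
    BD.of (by decide +kernel)
  revert w
  refine x6_ind (R := fun v => ∀ w, act p (v * w) = act p v * act p w) (by simp [h.1]) ?_ (h.2 p) v
  intro a b ha hb w
  rw [mul_assoc, ha, hb, ha, mul_assoc]

def actH (p : PG) : X6 →* X6 := MonoidHom.mk' (act p) (act_mul p)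

theorem mul_act (p q : PG) (v : X6) : act (p * q) v = act p (act q v) :=
  DFunLike.congr_fun (x6_ext (f := actH (p * q)) (g := (actH p).comp (actH q))
    ((show ∀ p q : PG, ∀ b ∈ BV, act (p * q) b = act p (act q b) from BD.of (by decide +kernel)) p q)) v

theorem one_act : ∀ v : X6, act 1 v = v := BD.of (by decide +kernel)

def aP : PG →* MulAut X6 := MonoidHom.mk' (fun p => ⟨⟨act p, act p⁻¹,
  fun v => by rw [← mul_act, inv_mul_cancel, one_act], fun v => by rw [← mul_act, mul_inv_cancel, one_act]⟩,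
    act_mul p⟩) fun p q => MulEquiv.ext (mul_act p q)

theorem aP_apply (p : PG) (v : X6) : aP p v = act p v := rfl

theorem aP_inj : Function.Injective aP := (injective_iff_map_eq_one aP).2 fun p hp =>
  (show ∀ p : PG, (∀ b ∈ BV, act p b = b) → p = 1 from BD.of (by decide +kernel)) p
    fun b _ => by rw [← aP_apply, hp]; rfl

def mu (x y : ℕ) : ℕ := Comp.force x fun x => Comp.force y fun y =>
  Comp.force (Nat.shiftRight x (nat_lit 6)) fun p =>
    Nat.add (Nat.xor (Nat.land x (nat_lit 63)) (ac p (Nat.land y (nat_lit 63))))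
      (Nat.shiftLeft (PT.mu p (Nat.shiftRight y (nat_lit 6))) (nat_lit 6))

def iv (x : ℕ) : ℕ := Comp.force x fun x => Comp.force (PT.iv (Nat.shiftRight x (nat_lit 6))) fun p =>
  Nat.add (ac p (Nat.land x (nat_lit 63))) (Nat.shiftLeft p (nat_lit 6))

def MT : Tab := ⟨512, mu, iv⟩

/-- decoding -/
def dc (x : ℕ) : X6 ⋊[aP] PG := ⟨e (x % 64), e (x / 64)⟩

theorem dc_v {x : ℕ} (h : x < 512) : (dc x).left.v = x % 64 ∧ (dc x).right.v = x / 64 :=
  ⟨Nat.mod_mod _ _, Nat.mod_eq_of_lt (show _ < 8 by omega)⟩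

theorem cd (a : X6 ⋊[aP] PG) : a.left.v + a.right.v * 64 < 512 ∧ dc (a.left.v + a.right.v * 64) = a := by
  have h1 : a.left.v < 64 := a.left.lt
  have h2 : a.right.v < 8 := a.right.lt
  have h : a.left.v + a.right.v * 64 < 512 := by omega
  exact ⟨h, SemidirectProduct.ext (TG.ext ((dc_v h).1.trans (by omega)))
    (TG.ext ((dc_v h).2.trans (by omega)))⟩

theorem mu_iv {x y : ℕ} (hx : x < 512) (hy : y < 512) :
    mu x y = (dc x * dc y).left.v + (dc x * dc y).right.v * 64 ∧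
      iv x = (dc x)⁻¹.left.v + (dc x)⁻¹.right.v * 64 := by
  have h1 : ∀ x : ℕ, x / 64 = x >>> 6 := fun x => (Nat.shiftRight_eq_div_pow x 6).symm
  have h2 : ∀ x : ℕ, x % 64 = x &&& 63 := fun x => (Nat.and_two_pow_sub_one_eq_mod x 6).symm
  have h3 : ∀ x : ℕ, x * 64 = x <<< 6 := fun x => (Nat.shiftLeft_eq x 6).symm
  constructor
  · change _ = Nat.xor (dc x).left.v (ac (dc x).right.v (dc y).left.v) + PT.mu (dc x).right.v (dc y).right.v * 64
    simp only [mu, Comp.force_eq, dc_v hx, dc_v hy, h1, h2, h3]; rfl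
  · change _ = ac (PT.iv (dc x).right.v) (dc x).left.v + PT.iv (dc x).right.v * 64
    simp only [iv, Comp.force_eq, dc_v hx, h1, h2, h3]; rfl

theorem dc_inj {x y : ℕ} (hx : x < 512) (hy : y < 512) (h : dc x = dc y) : x = y := by
  have := dc_v hx
  have := dc_v hy
  rw [h] at *
  omega

theorem dc_mu {x y : ℕ} (hx : x < 512) (hy : y < 512) : mu x y < 512 ∧ dc (mu x y) = dc x * dc y :=
  (mu_iv hx hy).1 ▸ cd _

theorem dc_iv {x : ℕ} (hx : x < 512) : iv x < 512 ∧ dc (iv x) = (dc x)⁻¹ := (mu_iv hx hx).2 ▸ cd _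

instance : Fact MT.OK := ⟨by
  have z : dc 0 = 1 := rfl
  have p : 0 < 512 := by decide
  exact ⟨p, fun a ha b hb => (dc_mu ha hb).1, fun a ha => (dc_iv ha).1, fun a ha b hb c hc =>
    dc_inj (dc_mu (dc_mu ha hb).1 hc).1 (dc_mu ha (dc_mu hb hc).1).1 (by
      change dc (mu (mu a b) c) = dc (mu a (mu b c))
      rw [(dc_mu (dc_mu ha hb).1 hc).2, (dc_mu ha (dc_mu hb hc).1).2, (dc_mu ha hb).2, (dc_mu hb hc).2,
        mul_assoc]), fun a ha => dc_inj (dc_mu p ha).1 ha ((dc_mu p ha).2.trans (by rw [z, one_mul])),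
    fun a ha => dc_inj (dc_mu (dc_iv ha).1 ha).1 p ((dc_mu (dc_iv ha).1 ha).2.trans (by
      rw [(dc_iv ha).2, z, inv_mul_cancel]))⟩⟩

abbrev M := TG MT

def sd : M ≃* X6 ⋊[aP] PG := ⟨⟨fun x => dc x.v, fun a => ⟨_, (cd a).1⟩,
  fun x => TG.ext (dc_inj (cd _).1 x.lt (cd _).2), fun a => (cd a).2⟩, fun x y => (dc_mu x.lt y.lt).2⟩

def nu : X6 →* M := sd.symm.toMonoidHom.comp SemidirectProduct.inl

def sg : PG →* M := sd.symm.toMonoidHom.comp SemidirectProduct.inr

def pr : M →* PG := SemidirectProduct.rightHom.comp sd.toMonoidHom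

def lv (x : M) : X6 := (sd x).left

instance evNu (v : X6) {n : ℕ} [EV v n] : EV (nu v) n := ⟨by rw [← EV.h (a := v)]; rfl⟩

instance evSg (p : PG) {n : ℕ} [EV p n] : EV (sg p) (Nat.shiftLeft n (nat_lit 6)) :=
  ⟨by rw [← EV.h (a := p)]; exact (Nat.zero_add _).trans (Nat.shiftLeft_eq _ 6).symm⟩

instance evPr (x : M) {n : ℕ} [EV x n] : EV (pr x) (Nat.shiftRight n (nat_lit 6)) :=
  ⟨by rw [← EV.h (a := x)]; exact (dc_v x.lt).2.trans (Nat.shiftRight_eq_div_pow _ 6).symm⟩

instance evLv (x : M) {n : ℕ} [EV x n] : EV (lv x) (Nat.land n (nat_lit 63)) :=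
  ⟨by rw [← EV.h (a := x)]; exact (dc_v x.lt).1.trans (Nat.and_two_pow_sub_one_eq_mod _ 6).symm⟩

theorem nu_sg (x : M) : nu (lv x) * sg (pr x) = x :=
  sd.injective (by simp [nu, sg, lv, pr, SemidirectProduct.rightHom_eq_right])

theorem pr_nu (v : X6) : pr (nu v) = 1 := by simp [pr, nu]

theorem pr_sg (p : PG) : pr (sg p) = p := by simp [pr, sg]

theorem lv_nu (v : X6) : lv (nu v) = v := by simp [lv, nu]

theorem lv_sg (p : PG) : lv (sg p) = 1 := by simp [lv, sg]

theorem lv_mul (x y : M) : lv (x * y) = lv x * act (pr x) (lv y) := by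
  rw [lv, map_mul]; rfl

theorem m_ext {x y : M} (h : lv x = lv y) (h' : pr x = pr y) : x = y := by
  rw [← nu_sg x, h, h', nu_sg]

theorem nu_inj : Function.Injective nu := fun a b h => by rw [← lv_nu a, h, lv_nu]

theorem mem_nu {x : M} : x ∈ nu.range ↔ pr x = 1 :=
  ⟨fun ⟨v, h⟩ => h ▸ pr_nu v, fun h => ⟨lv x, by rw [← nu_sg x, h, map_one, mul_one, lv_nu]⟩⟩

theorem cg_nu (x : M) (v : X6) : Cg nu x v (act (pr x) v) := by
  refine mul_inv_eq_iff_eq_mul.2 (m_ext ?_ (by simp [pr_nu]))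
  rw [lv_mul, lv_mul, lv_nu, lv_nu, pr_nu, one_act, x_comm]

theorem isPG : IsPGroup 2 M := IsPGroup.of_card (n := 9) TG.card

/-- the homomorphism with given restrictions to `V` and `P` -/
def lift (ν : X6 →* Γ) (σ : PG →* Γ) (h : ∀ p v, Cg ν (σ p) v (act p v)) : M →* Γ :=
  (SemidirectProduct.lift (φ := aP) ν σ fun p => MonoidHom.ext fun v => Eq.symm (h p v)).comp sd.toMonoidHom

theorem lift_apply {ν : X6 →* Γ} {σ : PG →* Γ} (h : ∀ p v, Cg ν (σ p) v (act p v)) (x : M) :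
    lift ν σ h x = ν (lv x) * σ (pr x) := rfl

/-- `φ` maps `M` onto a Sylow subgroup -/
structure Su (φ : M →* G) : Prop where
  inj : Function.Injective φ
  syl : IsSyl 2 φ.range ⊤

/-- the fusion of involutions is described by `L` -/
def Pat (φ : M →* G) (L : M → ℕ) : Prop :=
  ∀ x y : M, x * x = 1 → y * y = 1 → (IsConj (φ x) (φ y) ↔ L x = L y)

def l4 (C u : ℕ) : ℕ := Nat.land (Nat.shiftRight C (Nat.shiftLeft u (nat_lit 2))) (nat_lit 15)

/-- the class of an involution in `W(D₆)`; the classes `1, …, 10` are represented by the vectors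
`1, 3, 5, 7, 15, 21, 22, 23, 31, 63` -/
def kc (x : M) : ℕ := l4 KC x.v

instance nvKc (x : M) {n : ℕ} [EV x n] : NV (kc x) (l4 KC n) := ⟨by rw [← EV.h (a := x)]; rfl⟩

/-- a label that depends on the class only -/
def lb (C : ℕ) (x : M) : ℕ := l4 C (kc x)

instance nvLb (C : ℕ) (x : M) {n : ℕ} [EV x n] : NV (lb C x) (l4 C (l4 KC n)) := ⟨by rw [← EV.h (a := x)]; rfl⟩

/-- a quarter of the support in `A₁₂` -/
abbrev labA : M → ℕ := lb (nat_lit 0x33333222110)

/-- half the dimension of the `-1` eigenspace in `Ω₇` -/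
abbrev lab7 : M → ℕ := lb (nat_lit 0x33222221110)

/-- as `lab7`, but the centres of the subsystems `D₄` of `E₇` get the label `4` -/
abbrev labSp : M → ℕ := lb (nat_lit 0x33224421110)

open O7R (VV ee al Pm)

/-- coordinates -/
def v7h : X7 →* VV 7 := xhom (tup [ee 0, ee 1, ee 2, ee 3, ee 4, ee 5, ee 6]) 7 rfl (by decide)
  (fun _ _ => O7R.tau_sq (MonoidHom.id _) _) fun _ _ _ _ => Commute.all _ _

theorem v7h_e (i : Fin 7) : v7h (e (2 ^ i.1)) = ee i := by
  change el _ (2 ^ i.1 % 128) = _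
  rw [Nat.mod_eq_of_lt (by fin_cases i <;> simp), el_pow (by omega)]
  fin_cases i <;> rfl

def v7 : X7 ≃* VV 7 := MulEquiv.ofBijective v7h
  ((Nat.bijective_iff_surjective_and_card _).2 ⟨fun v => O7R.vv_ind (P := fun v => ∃ a, v7h a = v) ⟨1, map_one _⟩
    (fun _ _ ⟨a, ha⟩ ⟨b, hb⟩ => ⟨a * b, by rw [map_mul, ha, hb]⟩) (fun i => ⟨_, v7h_e i⟩) v,
      TG.card.trans (by simp [VV]; rfl)⟩)

theorem v7_e (i : Fin 7) : v7 (e (2 ^ i.1)) = ee i := v7h_e i

/-- the frame -/
abbrev TL : List X6 := es [62, 61, 59, 55, 47, 31, 63]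

def tauV : X7 →* X6 := xhom (tup TL) 7 rfl (by decide) (fun _ _ => x_sq _) fun _ _ _ _ => x_comm _ _

theorem tauV_apply (a : X7) : tauV a = lin TL a := rfl

instance evTauV (a : X7) {n : ℕ} [EV (lin TL a) n] : EV (tauV a) n := ‹_›

def tauM : VV 7 →* M := (nu.comp tauV).comp v7.symm.toMonoidHom

theorem tauM_v7 (a : X7) : tauM (v7 a) = nu (tauV a) := congrArg (fun x => nu (tauV x)) (v7.symm_apply_apply a)

theorem tauM_ee (i : Fin 7) : tauM (ee i) = nu (tup TL i) := by
  rw [← v7_e, tauM_v7]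
  exact (show ∀ i < 7, nu (tauV (e (2 ^ i))) = nu (tup TL i) from BD.of (by decide +kernel)) i i.2

theorem range_tauM : tauM.range = nu.range := by
  refine le_antisymm (by rintro _ ⟨v, rfl⟩; exact ⟨_, rfl⟩) ?_
  rintro _ ⟨v, rfl⟩
  obtain ⟨a, rfl⟩ := (show ∀ v, ∃ a, tauV a = v from BD.of (by decide +kernel)) v
  exact ⟨_, tauM_v7 a⟩

theorem v7_al : v7 (e 127) = al 7 := by
  rw [show (e 127 : X7) = e (2 ^ (0 : Fin 7).1) * e (2 ^ (1 : Fin 7).1) * e (2 ^ (2 : Fin 7).1) * e (2 ^ (3 : Fin 7).1) *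
    e (2 ^ (4 : Fin 7).1) * e (2 ^ (5 : Fin 7).1) * e (2 ^ (6 : Fin 7).1) from BD.of (by decide +kernel)]
  simp only [map_mul, v7_e]
  decide

theorem ker_tauM (v : VV 7) : tauM v = 1 ↔ v = 1 ∨ v = al 7 := by
  obtain ⟨a, rfl⟩ := v7.surjective v
  rw [tauM_v7, ← v7_al, map_eq_one_iff v7 v7.injective, v7.injective.eq_iff]
  exact (show ∀ a, nu (tauV a) = 1 ↔ a = 1 ∨ a = e 127 from BD.of (by decide +kernel)) a

/-- the case `Ω₇(q)` -/
structure Om (φ : M →* G) : Prop extends Su φ where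
  pat : Pat φ lab7
  alt : ∀ σ : Equiv.Perm (Fin 7), Equiv.Perm.sign σ = 1 → ∃ n, Pm (φ.comp tauM) n σ

open Equiv in
/-- `(0 2 4)(1 3 5)` -/
def rho7 : Perm (Fin 7) := swap 0 4 * swap 0 2 * (swap 1 5 * swap 1 3)

/-- the case `Sp₆(2)` -/
structure Sp (φ : M →* G) : Prop extends Su φ where
  pat : Pat φ labSp
  tr : ∀ i, ∃ n σ, Pm (φ.comp tauM) n σ ∧ σ 6 = i
  rho : ∃ n, Pm (φ.comp tauM) n rho7

end Cfsg.Agent.Z12
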