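import Cfsg.Agent.Z12.Loc
import Cfsg.Agent.A16.FK

/-! Fusion produced by `N(E)`; changes of coordinates. -/

set_option autoImplicit false
set_option maxRecDepth 100000
set_option synthInstance.maxSize 100000
set_option synthInstance.maxHeartbeats 0

noncomputable section

namespace Cfsg.Agent.Z12

open Subgroup Cfsg.Agent.X32 Cfsg.Agent.X32.TG Cfsg.Agent.Std.PcT Cfsg.Agent.LES Cfsg.Agent.SylT
  Cfsg.Agent.RuT Cfsg.Agent.PLocal Cfsg.Agent.PLocal.Amb Cfsg.Agent.Gold
open Cfsg.Agent.Y16 (NV X7 X1)
open Cfsg.Agent.W6 (K lkK zz)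

variable {G : Type*} [Group G] [Finite G] {φ : M →* G} {N : Subgroup G} {π : N →* K}

open O7R (VV ee al Pm t Fr Qt H12 p12)

/-- conjugating elements -/
def tKF : ℕ := nat_lit 0x29180000000000000000000044010000000044020000000000000000000029010302000000000000000000001e01000000001e020000000000000000000003011ec00000000000000000000003c0000000001e000000000000000000000003000302000000000000000000001e01000000001e0200000000000000000000030129000000000000000000440a0000000000000000440000000000000000002909030100000000000000001e01000000000000000003c100000000000000001ec1030000000000000000001e0300000000000000001e0000000000000000000303030000000000000000001e0300000000000000001e000000000000000000030300402441244024400000000000000000000000000000000001802581258025800000000000000000000000000000000000000000000000000000000000000000000000000000000000000000000000000000000000000000000000000000000000602461246024600000000000000000000000000000000001a025a125a025a00900000000003c000a04000000003d040a00000000003d000400000000001f00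000000000000000000000000000000000000000000000000000000000000000000000000000000000000000000000000000000000000000000000000000000000920000000003c200a24000000003d240a20000000003d200420000000001f200980000000003c80000000000000000000000000000000000b40000000003e400981000000003c81000000000000000000000000000000000b41000000003e410980000000003c80000000000000000000000000000000000b40000000003e400300000000001e000000000000000000000000000000000003c0000000001ec000004801480048000209260926184a040200260126004a000200260126002600000124012404480100042401000448040001000100014801020102010208260100002405240048000209020924004806000000000000480002000209020026000000240124002400000400090004240400000001000024000000000100000000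

/-- representatives of the classes -/
def rp (i : ℕ) : X6 := tup (es [0, 1, 3, 5, 7, 15, 21, 22, 23, 31, 63]) i

theorem kc_ok : ∀ x : M, x * x = 1 → kc x < 11 ∧ (x = 1 ↔ kc x = 0) ∧
    lkK tKF x * io x * (lkK tKF x)⁻¹ = io (nu (rp (kc x))) := by
  have h : ∀ x : M, x * x = 1 → kc x < 11 ∧ (x = 1 ↔ kc x = 0) ∧ ∀ i < 11, kc x = i →
      lkK tKF x * io x * (lkK tKF x)⁻¹ = io (nu (rp i)) := by
    unfold rp; exact BD.of (by decide +kernel)
  exact fun x hx => ⟨(h x hx).1, (h x hx).2.1, (h x hx).2.2 _ (h x hx).1 rfl⟩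

theorem kc_rp : ∀ i < 11, kc (nu (rp i)) = i := by
  unfold rp; exact BD.of (by decide +kernel)

theorem Kp.mem (h : Kp φ π) (x : M) : φ x ∈ N := h.eq ▸ range_le_nE ⟨x, rfl⟩

/-- PROOF. `A16.ker_isConj h.odd h.surj` for `⟨φ x, _⟩`, `⟨φ (nu (rp _)), _⟩ : N` and `kc_ok`. -/
theorem Kp.fus (h : Kp φ π) {x : M} (hx : x * x = 1) : IsConj (φ x) (φ (nu (rp (kc x)))) := by
  obtain ⟨k, -, e⟩ := A16.ker_isConj h.odd h.surj (x := ⟨_, h.mem x⟩) (y := ⟨_, h.mem (nu (rp (kc x)))⟩)
    (Subtype.ext ((map_mul φ _ _).symm.trans (by rw [hx, map_one]; rfl)))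
    (Subtype.ext ((map_mul φ _ _).symm.trans (by rw [nu_sq, map_one]; rfl))) (g := lkK tKF x)
    (by rw [h.emb x _ rfl, h.emb (nu _) _ rfl]; exact (kc_ok x hx).2.2)
  exact isConj_iff.2 ⟨k, congrArg Subtype.val e⟩

/-- PROOF. Let `π n₀ = k`, `L = comap π (io.comp nu).range ≤ N`, `V' = (VG φ).subgroupOf N` (order `64`, `|L| = 64 · |ker π|`, so `V'` is a
Sylow subgroup of `L`; or: `V'` is a maximal `2`-subgroup since `π` is injective on `2`-subgroups, `A16.ker_one`).  `cj(n₀, V') ≤ L`, so
`cj(l n₀, V') ≤ V'` for some `l ∈ L`; `π l ∈ io (nu _)` commutes with `io (nu _)`.  If `n φ(nu v) n⁻¹ = φ (nu w)`, `n = l n₀`, apply `π`: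
`io (nu w) = io (nu (θ v))`. -/
theorem Kp.liftV (h : Kp φ π) {k : K} {θ : X6 → X6} (e : ∀ v, Cg (io.comp nu) k v (θ v)) :
    ∃ n : G, ∀ v, Cg (φ.comp nu) n v (θ v) := by
  obtain ⟨n, rfl⟩ := h.surj k
  let ψ := φ.codRestrict N h.mem
  have hψ : ∀ x, π (ψ x) = io x := fun x => h.emb x _ rfl
  have p2 : IsPGroup 2 (ψ.comp nu).range := isPGroup_iff.2 (by
    rintro _ ⟨v, rfl⟩
    exact ⟨1, by rw [← map_pow, pow_one, sq, x_sq, map_one]⟩)
  have sy : IsSyl 2 (ψ.comp nu).range ((io.comp nu).range.comap π) :=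
    ⟨by rintro _ ⟨v, rfl⟩; exact ⟨v, (hψ _).symm⟩, p2, fun R hR h1 h2 r hr => by
      obtain ⟨v, hv⟩ := h2 hr
      obtain ⟨k, hk⟩ := isPGroup_iff.1 hR _ (mul_mem (inv_mem (h1 ⟨v, rfl⟩)) hr)
      exact ⟨v, inv_mul_eq_one.1 (A16.ker_one h.odd hk (by
        rw [map_mul, map_inv, ← hv, MonoidHom.comp_apply, hψ]; exact inv_mul_cancel _))⟩⟩
  have k : ∀ v, π (n * (ψ.comp nu) v * n⁻¹) = io (nu (θ v)) := fun v => by
    rw [map_mul, map_mul, map_inv, MonoidHom.comp_apply, hψ]; exact e v
  obtain ⟨l, ⟨u, hu⟩, c⟩ := sy.exists_cj_le (isPGroup_cj n p2)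
    (cj_le_iff_forall.2 (by rintro _ ⟨v, rfl⟩; exact ⟨θ v, (k v).symm⟩))
  refine ⟨(l * n : N), fun v => ?_⟩
  obtain ⟨w, hw⟩ := c (conj_mem_cj l (conj_mem_cj n ⟨v, rfl⟩))
  have := congrArg π hw
  rw [map_mul, map_mul π l, k, map_inv, ← hu, MonoidHom.comp_apply, hψ, MonoidHom.comp_apply, ← map_mul, ← map_mul, x_comm,
    map_mul, map_mul, mul_inv_cancel_right] at this
  rw [← nu_inj (io_inj this)]
  have := congrArg Subtype.val hw
  simpa [Cg, ψ, mul_assoc] using this.symm

/-- PROOF. `π n = k`; `n ∈ 𝐍[EG φ]`, so `n φ(eps v) n⁻¹ = φ (eps w')` (`fA_cg`); apply `π`, `io_inj`, `eps_inj`. -/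
theorem Kp.liftE (h : Kp φ π) (n : N) {v w : X5} (e : Cg eK (π n) v w) : Cg (φ.comp eps) n v w := by
  obtain ⟨w', c⟩ : ∃ w', Cg (φ.comp eps) n v w' :=
    ⟨_, fA_cg (j := φ.comp eps) (h.inj.comp eps_inj) ⟨n, h.eq.le n.2⟩ v⟩
  have := congrArg π (show n * ⟨_, h.mem (eps v)⟩ * n⁻¹ = ⟨_, h.mem (eps w')⟩ from Subtype.ext c)
  rw [map_mul, map_mul, map_inv, h.emb (eps v) ⟨_, _⟩ rfl, h.emb (eps w') ⟨_, _⟩ rfl] at this
  rwa [eps_inj (io_inj (Eq.trans (Eq.symm e) this))]

/-- PROOF. `liftV` with `k = e 9728` (the permutation `(f₀ f₂ f₄)(f₁ f₃ f₅)`), `θ = lin (es [4, 8, 16, 32, 1, 2])`; `tauM_ee` and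
`θ (tup TL i) = tup TL (rho7 i)` (`fin_cases i`). -/
theorem Kp.rho (h : Kp φ π) : ∃ n : G, Pm (φ.comp tauM) n rho7 := by
  obtain ⟨n, hn⟩ := h.liftV (k := e 9728) (θ := lin (es [4, 8, 16, 32, 1, 2]))
    (show ∀ v, (e 9728 : K) * io (nu v) * (e 9728)⁻¹ = io (nu (lin (es [4, 8, 16, 32, 1, 2]) v)) from
      BD.of (by decide +kernel))
  refine ⟨n, fun i => ?_⟩
  have c : ∀ i < 7, ∀ j < 7, j = [2, 3, 4, 5, 0, 1, 6].getD i 0 →
      (lin (es [4, 8, 16, 32, 1, 2]) (tup TL i) : X6) = tup TL j := BD.of (by decide +kernel)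
  have := hn (tup TL i)
  rw [c i i.2 _ (rho7 i).2 ((by decide +kernel : ∀ i : Fin 7, (rho7 i : ℕ) = [2, 3, 4, 5, 0, 1, 6].getD i 0) i)] at this
  simpa only [t, MonoidHom.comp_apply, tauM_ee, Cg] using this

/-- tables of maps `M → M` -/
def lkM (tab : ℕ) (x : M) : M := e (W6.t16 tab x.v)

instance evLkM (tab : ℕ) (x : M) {m : ℕ} [EV x m] : EV (lkM tab x) (Nat.mod (W6.t16 tab m) (nat_lit 512)) :=
  ⟨by rw [← EV.h (a := x)]; rfl⟩

def tU : ℕ := nat_lit 0x1ff01c101c201fc01c401fa01f901c701c801f601f501cb01f301cd01ce01f001d001ee01ed01d301eb01d501d601e801e701d901da01e401dc01e201e101df01e001de01dd01e301db01e501e601d801d701e901ea01d401ec01d201d101ef01cf01f101f201cc01f401ca01c901f701f801c601c501fb01c301fd01fe01c001bf0181018201bc018401ba01b90187018801b601b5018b01b3018d018e01b0019001ae01ad019301ab0195019601a801a70199019a01a4019c01a201a1019f01a0019e019d01a3019b01a501a60198019701a901aa019401ac0192019101af018f01b101b2018c01b4018a018901b701b80186018501bb018301bd01be0180017f01410142017c0144017a017901470148017601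75014b0173014d014e01700150016e016d0153016b01550156016801670159015a0164015c01620161015f0160015e015d0163015b01650166015801570169016a0154016c01520151016f014f01710172014c0174014a01490177017801460145017b0143017d017e0140013f01010102013c0104013a01390107010801360135010b0133010d010e01300110012e012d0113012b01150116012801270119011a0124011c01220121011f0120011e011d0123011b01250126011801170129012a0114012c01120111012f010f01310132010c0134010a01090137013801060105013b0103013d013e010000ff00c100c200fc00c400fa00f900c700c800f600f500cb00f300cd00ce00f000d000ee00ed00d300eb00d500d600e800e700d900da00e400dc00e200e100df00e000de00dd00e300db00e500e600d800d700e900ea00d400ec00d200d100ef00cf00f100f200cc00f400ca00c900f700f800c600c500fb00c300fd00fe00c000bf0081008200bc008400ba00b90087008800b600b5008b00b3008d008e00b0009000ae00ad009300ab0095009600a800a70099009a00a4009c00a200a1009f00a0009e009d00a3009b00a500a60098009700a900aa009400ac0092009100af008f00b100b2008c00b4008a008900b700b80086008500bb008300bd00be0080007f00410042007c0044007a00790047004800760075004b0073004d004e00700050006e006d0053006b00550056006800670059005a0064005c00620061005f0060005e005d0063005b00650066005800570069006a0054006c00520051006f004f00710072004c0074004a00490077007800460045007b0043007d007e0040003f00010002003c0004003a00390007000800360035000b0033000d000e00300010002e002d0013002b00150016002800270019001a0024001c00220021001f0020001e001d0023001b00250026001800170029002a0014002c00120011002f000f00310032000c0034000a00090037003800060005003b0003003d003e0000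

def tS : ℕ := nat_lit 0x1bf01bd01be01bc01bb01b901ba01b801b701b501b601b401b301b101b201b001af01ad01ae01ac01ab01a901aa01a801a701a501a601a401a301a101a201a0019f019d019e019c019b0199019a019801970195019601940193019101920190018f018d018e018c018b0189018a01880187018501860184018301810182018001ff01fd01fe01fc01fb01f901fa01f801f701f501f601f401f301f101f201f001ef01ed01ee01ec01eb01e901ea01e801e701e501e601e401e301e101e201e001df01dd01de01dc01db01d901da01d801d701d501d601d401d301d101d201d001cf01cd01ce01cc01cb01c901ca01c801c701c501c601c401c301c101c201c0013f013d013e013c013b0139013a013801370135013601340133013101320130012f012d012e012c012b0129012a012801270125012601240123012101220120011f011d011e011c011b0119011a011801170115011601140113011101120110010f010d010e010c010b0109010a010801070105010601040103010101020100017f017d017e017c017b0179017a017801770175017601740173017101720170016f016d016e016c016b0169016a016801670165016601640163016101620160015f015d015e015c015b0159015a015801570155015601540153015101520150014f014d014e014c014b0149014a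01480147014501460144014301410142014000ff00fd00fe00fc00fb00f900fa00f800f700f500f600f400f300f100f200f000ef00ed00ee00ec00eb00e900ea00e800e700e500e600e400e300e100e200e000df00dd00de00dc00db00d900da00d800d700d500d600d400d300d100d200d000cf00cd00ce00cc00cb00c900ca00c800c700c500c600c400c300c100c200c000bf00bd00be00bc00bb00b900ba00b800b700b500b600b400b300b100b200b000af00ad00ae00ac00ab00a900aa00a800a700a500a600a400a300a100a200a0009f009d009e009c009b0099009a009800970095009600940093009100920090008f008d008e008c008b0089008a008800870085008600840083008100820080007f007d007e007c007b0079007a007800770075007600740073007100720070006f006d006e006c006b0069006a006800670065006600640063006100620060005f005d005e005c005b0059005a005800570055005600540053005100520050004f004d004e004c004b0049004a004800470045004600440043004100420040003f003d003e003c003b0039003a003800370035003600340033003100320030002f002d002e002c002b0029002a002800270025002600240023002100220020001f001d001e001c001b0019001a001800170015001600140013001100120010000f000d000e000c000b0009000a000800070005000600040003000100020000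

/-- `x ↦ x α ^ {sgn x}` -/
def uM : M →* M := mkM (lkM tU) (BD.of (by decide +kernel)) (BD.of (by decide +kernel))

/-- conjugation by the transposition `(0 1)` -/
def sM : M →* M := mkM (lkM tS) (BD.of (by decide +kernel)) (BD.of (by decide +kernel))

instance evUM (x : M) {m : ℕ} [EV (lkM tU x) m] : EV (uM x) m := ⟨EV.h (a := lkM tU x)⟩

instance evSM (x : M) {m : ℕ} [EV (lkM tS x) m] : EV (sM x) m := ⟨EV.h (a := lkM tS x)⟩

/-- PROOF. `Su.comp`; `EG (φ.comp β) = EG φ` (`le_antisymm`, using `hβ` and `β (β x) = x`); `π' = θ.comp π`; `θ` is surjective, so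
injective (`K` is finite), `ker π' = ker π`. -/
theorem Kp.chg (h : Kp φ π) {β : M →* M} {θ : K →* K} (ββ : ∀ x, β (β x) = x) (hβ : ∀ v, ∃ w, β (eps v) = eps w)
    (hθ : Function.Injective θ) (e : ∀ x, θ (io (β x)) = io x) : Kp (φ.comp β) (θ.comp π) := by
  have k : ∀ v, ∃ w, eps v = β (eps w) := fun v => let ⟨w, a⟩ := hβ v; ⟨w, by rw [← a, ββ]⟩
  refine ⟨h.toSu.comp (Function.LeftInverse.injective ββ), h.eq.trans (congrArg (𝐍[·]) (le_antisymm ?_ ?_)),
    (Finite.injective_iff_surjective.1 hθ).comp h.surj, ?_, fun x n hn => ?_⟩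
  · rintro _ ⟨v, rfl⟩
    exact let ⟨w, a⟩ := k v; ⟨w, congrArg φ a.symm⟩
  · rintro _ ⟨v, rfl⟩
    exact let ⟨w, a⟩ := hβ v; ⟨w, congrArg φ a.symm⟩
  · rw [MonoidHom.ker_comp_of_injective _ _ hθ]; exact h.odd
  · rw [MonoidHom.comp_apply, h.emb _ n hn, e]

/-- PROOF. `chg` with `θ = W6.tau` (injective by `W6.minN` and `W6.tau_z`, see `W6.SS.twist`).  `tau (io (uM x)) = io x` by `m_hext`: for
`x = e (2^i)`, `i < 6`, `io (uM x) = ep v` for some `v`, use `W6.tau_ep`; for `x = e 64, e 128, e 256` show `sign (pp (io x)) = 1`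
(`pp (io x) = 1, 1, swap 0 2 * swap 1 3` by `Equiv.ext` and `W6.rho_val`, as in `W6.sign_pp`). -/
theorem Kp.twist (h : Kp φ π) : ∃ π' : N →* K, Kp (φ.comp uM) π' := by
  refine ⟨_, h.chg (θ := W6.tau) (BD.of (by decide +kernel)) (BD.of (by decide +kernel))
    ((injective_iff_map_eq_one _).2 (W6.minN W6.tau.ker inferInstance (by
      rw [MonoidHom.mem_ker, W6.tau_z]; exact W6.z2.2))) ?_⟩
  refine DFunLike.congr_fun (m_hext (f := W6.tau.comp (io.comp uM)) (g := io) fun x hx => ?_)
  obtain ⟨n, hn, rfl⟩ := List.mem_map.1 hx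
  have c : ∀ n ∈ [1, 2, 4, 8, 16, 32, 64, 128, 256], ∃ σ ∈ [(1 : Equiv.Perm (Fin 6)), Equiv.swap 0 1, Equiv.swap 2 3,
      Equiv.swap 4 5, Equiv.swap 0 2 * Equiv.swap 1 3], (∀ i, (σ i : ℕ) = W6.dg (W6.en (io (uM (e n))).v) (2 * i) / 2) ∧
      (io (uM (e n)) * if Equiv.Perm.sign σ = 1 then 1 else zz).v = (io (e n)).v := by decide +kernel
  obtain ⟨σ, -, a, b⟩ := c n hn
  change io (uM (e n)) * (if Equiv.Perm.sign (W6.pp (io (uM (e n)))) = 1 then 1 else zz) = _
  rw [show W6.pp (io (uM (e n))) = σ from Equiv.ext fun i => Fin.ext (by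
    rw [a]; exact congrArg (· / 2) (W6.rho_val _ (W6.db i)))]
  exact TG.ext b

/-- PROOF. `chg` with `θ k = eqv.symm ⟨w * rho k * w⁻¹, _⟩`, `w = swap 2 3 : Perm (Fin 12)` commutes with `W6.a0`; check
`w * rho (io (sM x)) * w⁻¹ = rho (io x)` on the generators (`m_hext`, `W6.rho_inj`, `W6.rho_val`). -/
theorem Kp.swap (h : Kp φ π) : ∃ π' : N →* K, Kp (φ.comp sM) π' := by
  have w0 : Equiv.swap (2 : Fin 12) 3 ∈ 𝐍[W6.HH] := (le_normalizer_inf (L := zpowers _) le_normalizer_of_normal
    (zpowers_le.2 (le_normalizer (mem_centralizer_singleton_iff.2 (by decide +kernel))))) (mem_zpowers _)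
  have w1 : Equiv.swap (2 : Fin 12) 3 ∈ 𝐍[W6.rho.range] := mem_nA' fun v =>
    ⟨W6.eqv.symm ⟨_, conj_mem_of_mem_normalizer w0 (W6.eqv v).2⟩,
      (congrArg Subtype.val (W6.eqv.apply_symm_apply ⟨_, conj_mem_of_mem_normalizer w0 (W6.eqv v).2⟩)).symm⟩
  refine ⟨_, h.chg (θ := (fA W6.rho_inj ⟨_, w1⟩).toMonoidHom) (BD.of (by decide +kernel)) (BD.of (by decide +kernel))
    (MulEquiv.injective _) ?_⟩
  refine DFunLike.congr_fun (m_hext (f := (fA W6.rho_inj ⟨_, w1⟩).toMonoidHom.comp (io.comp sM)) (g := io) fun x hx => ?_)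
  obtain ⟨n, hn, rfl⟩ := List.mem_map.1 hx
  have c : ∀ n ∈ [1, 2, 4, 8, 16, 32, 64, 128, 256], ∀ j i : Fin 12, (i : ℕ) = W6.dg (W6.en (io (sM (e n))).v) j →
      (Equiv.swap 2 3 i : Fin 12).1 = W6.dg (W6.en (io (e n)).v) (Equiv.swap 2 3 j : Fin 12) := by decide +kernel
  exact fA_eq _ _ (mul_inv_eq_iff_eq_mul.2 (Equiv.ext fun j => Fin.ext
    ((c n hn j _ (W6.rho_val _ j)).trans (W6.rho_val _ _).symm)))

end Cfsg.Agent.Z12
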